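import Groth.Agent.Misc12.HensIso.OrdForm
import Groth.Agent.SGA7.Morse

/-!
The formal Morse lemma for ordinary quadratic singularities, up to a unit factor.
-/

set_option autoImplicit false

universe u

namespace Groth.Agent.Misc12.HensIso

open MvPowerSeries Groth.SGA7.Morse Groth.EtaleDeep.PSInverse

variable {k : Type u} [Field k] {n : ℕ}

local notation "PS" => MvPowerSeries (Fin n) k

/-- The linear forms `∂Q/∂x_i`. -/
noncomputable def partial_ (a : Fin n → Fin n → k) (i : Fin n) : PS :=
  ∑ j, C (VanCyc.polarMatrix a i j) * X j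

/-- Combinations `c Q + Σ (∂Q/∂x_i) λ_i` with `λ_i` of positive order. -/
def Expr (a : Fin n → Fin n → k) (p : PS) : Prop :=
  ∃ (c : k) (Λ : Fin n → PS), (∀ i, (1 : ℕ∞) ≤ (Λ i).order) ∧
    p = C c * quadSer a X + ∑ i, partial_ a i * Λ i

theorem expr_add {a : Fin n → Fin n → k} {p q : PS} (hp : Expr a p) (hq : Expr a q) : Expr a (p + q) := by
  obtain ⟨c, Λ, hΛ, rfl⟩ := hp
  obtain ⟨c', Λ', hΛ', rfl⟩ := hq
  refine ⟨c + c', fun i => Λ i + Λ' i, fun i => le_order_add' (hΛ i) (hΛ' i), ?_⟩
  simp only [map_add, add_mul, mul_add, Finset.sum_add_distrib]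
  ring

theorem expr_C_mul {a : Fin n → Fin n → k} {p : PS} (r : k) (hp : Expr a p) : Expr a (C r * p) := by
  obtain ⟨c, Λ, hΛ, rfl⟩ := hp
  refine ⟨r * c, fun i => C r * Λ i, fun i => le_trans (le_trans (hΛ i) le_add_self) le_order_mul, ?_⟩
  rw [mul_add, Finset.mul_sum, map_mul, mul_assoc]
  congr 1
  exact Finset.sum_congr rfl fun i _ => by ring

theorem expr_zero (a : Fin n → Fin n → k) : Expr a (0 : PS) :=
  ⟨0, 0, fun i => by simp, by simp⟩

theorem expr_sum {a : Fin n → Fin n → k} {ι : Type*} (s : Finset ι) {p : ι → PS}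
    (hp : ∀ i ∈ s, Expr a (p i)) : Expr a (∑ i ∈ s, p i) := by
  classical
  induction s using Finset.induction_on with
  | empty => simpa using expr_zero a
  | insert b t hb ih =>
    rw [Finset.sum_insert hb]
    exact expr_add (hp b (Finset.mem_insert_self b t)) (ih fun i hi => hp i (Finset.mem_insert_of_mem hi))

theorem one_le_order_partial (a : Fin n → Fin n → k) (i : Fin n) : (1 : ℕ∞) ≤ (partial_ a i).order :=
  le_order_sum _ fun j _ => le_trans (le_trans (by simp [one_le_order_iff_constCoeff_eq_zero]) le_add_self) le_order_mul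

variable [IsAlgClosed k] {a : Fin n → Fin n → k}

/-- Quadratic monomials are expressible. -/
theorem expr_X_mul_X (ha : VanCyc.QuadOrd a) (p q : Fin n) : Expr a (X p * X q : PS) := by
  classical
  obtain ⟨v, φ, M, hv, hid, hQ⟩ := exists_kernel_data a ha
  let L : Fin n → PS := fun b => ∑ l, C (M b l) * partial_ a l
  let z : PS := ∑ j, C (φ j) * X j
  have hL1 : ∀ b, (1 : ℕ∞) ≤ (L b).order := fun b => le_order_sum _ fun l _ =>
    le_trans (le_trans (one_le_order_partial a l) le_add_self) le_order_mul
  have hz1 : (1 : ℕ∞) ≤ z.order := le_order_sum _ fun j _ =>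
    le_trans (le_trans (by simp [one_le_order_iff_constCoeff_eq_zero]) le_add_self) le_order_mul
  have hX : ∀ b, (X b : PS) = C (v b) * z + L b := by
    intro b
    have hmat : ∀ j, (if b = j then (1 : k) else 0) = (M * VanCyc.polarMatrix a) b j + φ j * v b := fun j => by
      have h1 := congrFun (hid (Pi.single j 1)) b
      rw [Matrix.mulVec_mulVec, Matrix.mulVec_single_one, dotProduct_single] at h1
      simpa [Pi.single_apply, Matrix.col_apply] using h1
    simp only [L, z, partial_, Finset.mul_sum, ← mul_assoc, ← map_mul]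
    rw [Finset.sum_comm, ← Finset.sum_add_distrib]
    simp only [← Finset.sum_mul, ← map_sum, ← add_mul, ← map_add]
    rw [Finset.sum_eq_single b]
    · have := hmat b
      rw [if_pos rfl, Matrix.mul_apply, add_comm, mul_comm] at this
      rw [← this, map_one, one_mul]
    · intro j _ hj
      have := hmat j
      rw [if_neg (Ne.symm hj), Matrix.mul_apply, add_comm, mul_comm] at this
      rw [← this, map_zero, zero_mul]
    · simp
  have hLexpr : ∀ (b : Fin n) (g : PS), (1 : ℕ∞) ≤ g.order → Expr a (L b * g) := fun b g hg =>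
    ⟨0, fun i => C (M b i) * g, fun i => le_trans (le_trans hg le_add_self) le_order_mul, by
      rw [map_zero, zero_mul, zero_add, Finset.sum_mul]
      exact Finset.sum_congr rfl fun i _ => by ring⟩
  have hQX : quadSer a (X : Fin n → PS) = C (VanCyc.quadEval a v) * (z * z) + quadSer a L := by
    conv_lhs => rw [show (X : Fin n → PS) = fun b => C (v b) * z + L b from funext hX]
    have h1 : quadSer a (fun b => C (v b) * z) = C (VanCyc.quadEval a v) * (z * z) := by
      simp only [quadSer, VanCyc.quadEval, map_sum, Finset.sum_mul]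
      refine Finset.sum_congr rfl fun i _ => Finset.sum_congr rfl fun j _ => ?_
      split_ifs <;> simp [map_mul] <;> ring
    have h2 : ∑ i, (∑ j, VanCyc.polarMatrix (fun i j => (C (a i j) : PS)) i j * (C (v j) * z)) * L i = 0 := by
      refine Finset.sum_eq_zero fun i _ => ?_
      have hpol : ∀ j, VanCyc.polarMatrix (fun i j => (C (a i j) : PS)) i j = C (VanCyc.polarMatrix a i j) := by
        intro j; unfold VanCyc.polarMatrix; split_ifs <;> simp [map_ofNat]
      have h3 : ∑ j, VanCyc.polarMatrix a i j * v j = 0 := congrFun hv i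
      simp only [hpol, ← mul_assoc, ← map_mul, ← Finset.sum_mul, ← map_sum, h3, map_zero, zero_mul]
    rw [quadSer, quadEval_add, h2, add_zero]
    exact congrArg (· + quadSer a L) h1
  have hexp : (X p * X q : PS) = L p * (C (v q) * z) + L q * (C (v p) * z) + L p * L q +
      C (v p * v q) * (z * z) := by
    rw [hX p, hX q, map_mul]; ring
  have hzc : ∀ r, (1 : ℕ∞) ≤ (C r * z : PS).order := fun r =>
    le_trans (le_trans hz1 le_add_self) le_order_mul
  rw [hexp]
  refine expr_add (expr_add (expr_add (hLexpr _ _ (hzc _)) (hLexpr _ _ (hzc _))) (hLexpr _ _ (hL1 _))) ?_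
  rcases hQ with hv0 | hQ
  · simpa [hv0] using expr_zero a
  have h4 : C (v p * v q) * (z * z) = C (v p * v q / VanCyc.quadEval a v) * quadSer a (X : Fin n → PS) +
      C (-(v p * v q / VanCyc.quadEval a v)) * quadSer a L := by
    have h5 : (C (v p * v q) : PS) = C (v p * v q / VanCyc.quadEval a v) * C (VanCyc.quadEval a v) := by
      rw [← map_mul, div_mul_cancel₀ _ hQ]
    rw [hQX, map_neg, h5]
    ring
  rw [h4]
  refine expr_add ⟨v p * v q / VanCyc.quadEval a v, 0, fun i => by simp, by simp⟩ (expr_C_mul _ ?_)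
  unfold quadSer VanCyc.quadEval
  refine expr_sum _ fun i _ => expr_sum _ fun j _ => ?_
  split_ifs
  · rw [show C (a i j) * L i * L j = L i * (C (a i j) * L j) by ring]
    exact hLexpr _ _ (le_trans (le_trans (hL1 j) le_add_self) le_order_mul)
  · exact expr_zero a

/-- A series with quadratic part `Q`, ordinary, is equivalent to `Q` up to a unit. -/
theorem exists_subst_eq_unit_mul (ha : VanCyc.QuadOrd a) (F : PS)
    (hF : ∀ e : Fin n →₀ ℕ, e.degree ≤ 2 → coeff e F = coeff e (quadSer a (X : Fin n → PS))) :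
    ∃ (h : Fin n → PS) (w : PS), (∀ i, (2 : ℕ∞) ≤ (h i).order) ∧ HasSubst (fun i => X i + h i) ∧
      constantCoeff w = 0 ∧ subst (fun i => X i + h i) F = (1 + w) * quadSer a X := by
  classical
  choose c Λ hΛ hcΛ using expr_X_mul_X (n := n) ha
  set Q : PS := quadSer a X with hQ
  set R := F - Q with hR
  have hRo : ((2 + 1 : ℕ) : ℕ∞) ≤ R.order := nat_le_order fun e he => by
    rw [hR, map_sub, hF e (by omega), sub_self]
  let E : (Fin n → PS) → PS := fun h => quadSer a h + subst (fun i => X i + h i) R
  let D : PS → Fin n → Fin n → PS := fun g p q => decomp (decomp g p) q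
  have hD : ∀ {g : PS} {l : ℕ}, ((l + 1 + 1 : ℕ) : ℕ∞) ≤ g.order → ∀ p q, (l : ℕ∞) ≤ (D g p q).order :=
    fun hg p q => le_order_decomp (le_order_decomp hg p) q
  let Φ : (Fin n → PS) → Fin n → PS := fun h i => -∑ p, ∑ q, Λ p q i * D (E h) p q
  have hsub : ∀ h : Fin n → PS, (∀ i, (2 : ℕ∞) ≤ (h i).order) → ∀ i, constantCoeff (X i + h i) = 0 := by
    intro h hh i
    rw [map_add, constantCoeff_X, zero_add]
    exact constantCoeff_eq_zero_of_two_le (hh i)
  have hE : ∀ h : Fin n → PS, (∀ i, (2 : ℕ∞) ≤ (h i).order) → ((2 + 1 : ℕ) : ℕ∞) ≤ (E h).order := by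
    intro h hh
    refine le_order_add' (le_trans (by exact_mod_cast (by omega : 3 ≤ 2 + 2)) (le_order_quadSer a (l := 2) hh)) ?_
    exact le_order_subst_of_order _ (hasSubst_of_constantCoeff_zero (hsub h hh)) _ (hsub h hh) _ hRo
  obtain ⟨h, hh, hfix⟩ := exists_fixed 2 Φ (fun h hh i => le_order_neg' (le_order_sum _ fun p _ =>
      le_order_sum _ fun q _ => le_trans (by exact_mod_cast le_rfl)
        (le_order_mul' (m := 1) (n := 1) (by exact_mod_cast hΛ p q i) (hD (hE h hh) p q))))
    (fun h h' m hh hh' hm i => by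
      have key : ((m + 1 + 1 : ℕ) : ℕ∞) ≤ (E h - E h').order := by
        have e : E h - E h' = (quadSer a h - quadSer a h') +
            (subst (fun i => X i + h i) R - subst (fun i => X i + h' i) R) := by simp only [E]; ring
        rw [e]
        refine le_order_add' (le_trans (by exact_mod_cast (by omega)) (le_order_quadSer_sub a (l := 2) hh hh' hm)) ?_
        refine le_trans ?_ (le_order_subst_sub_of_order _ _ (hasSubst_of_constantCoeff_zero (hsub h hh))
          (hasSubst_of_constantCoeff_zero (hsub h' hh')) m 3 (hsub h hh) (hsub h' hh')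
          (fun i => by simpa using hm i) R hRo)
        exact_mod_cast (by omega)
      have e : Φ h i - Φ h' i = -∑ p, ∑ q, Λ p q i * D (E h - E h') p q := by
        simp only [Φ, D, decomp_sub, mul_sub, Finset.sum_sub_distrib]; ring
      rw [e]
      refine le_order_neg' (le_order_sum _ fun p _ => le_order_sum _ fun q _ => ?_)
      rw [add_comm m 1]
      exact le_order_mul' (by exact_mod_cast hΛ p q i) (hD key p q))
  have hs : HasSubst (fun i => X i + h i) := hasSubst_of_constantCoeff_zero (hsub h hh)
  let w : PS := ∑ p, ∑ q, C (c p q) * D (E h) p q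
  refine ⟨h, w, hh, hs, ?_, ?_⟩
  · refine one_le_order_iff_constCoeff_eq_zero.1 (le_order_sum _ fun p _ => le_order_sum _ fun q _ => ?_)
    exact le_trans (le_trans (by exact_mod_cast hD (hE h hh) p q) le_add_self) le_order_mul
  have hEeq : E h = w * Q - ∑ i, partial_ a i * h i := by
    have h0 : constantCoeff (E h) = 0 :=
      constantCoeff_eq_zero_of_two_le (le_trans (by exact_mod_cast (by omega)) (hE h hh))
    have h00 : ∀ p, constantCoeff (decomp (E h) p) = 0 := fun p =>
      constantCoeff_eq_zero_of_two_le (le_order_decomp (hE h hh) p)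
    conv_lhs => rw [← sum_X_mul_decomp (E h) h0]
    have h1 : ∀ p, (X p : PS) * decomp (E h) p = ∑ q, (X p * X q) * D (E h) p q := fun p => by
      conv_lhs => rw [← sum_X_mul_decomp (decomp (E h) p) (h00 p)]
      rw [Finset.mul_sum]
      exact Finset.sum_congr rfl fun q _ => (mul_assoc _ _ _).symm
    simp only [h1, hcΛ, add_mul, Finset.sum_add_distrib, w, Finset.sum_mul]
    rw [sub_eq_add_neg]
    congr 1
    · exact Finset.sum_congr rfl fun p _ => Finset.sum_congr rfl fun q _ => by ring
    have h2 : ∀ i, partial_ a i * h i = -∑ p, ∑ q, partial_ a i * Λ p q i * D (E h) p q := fun i => by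
      rw [← congrFun hfix i]
      simp only [Φ, mul_neg, Finset.mul_sum, mul_assoc]
    simp only [h2, Finset.sum_neg_distrib, neg_neg]
    conv_lhs => enter [2, p]; rw [Finset.sum_comm]
    rw [Finset.sum_comm]
  have hFd : F = ((VanCyc.quadPoly a : MvPolynomial (Fin n) k) : PS) + R := by
    rw [coe_quadPoly, hR, hQ, add_sub_cancel]
  have hpol : ∀ i j, VanCyc.polarMatrix (fun i j => (C (a i j) : PS)) i j = C (VanCyc.polarMatrix a i j) := by
    intro i j; unfold VanCyc.polarMatrix; split_ifs <;> simp [map_ofNat]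
  have hQe : quadSer a (fun i => X i + h i) = Q + quadSer a h + ∑ i, partial_ a i * h i := by
    rw [hQ]
    unfold quadSer
    rw [quadEval_add]
    simp only [hpol, partial_]
  rw [hFd, subst_add hs, subst_quadPoly, hQe]
  calc Q + quadSer a h + ∑ i, partial_ a i * h i + subst (fun i => X i + h i) R
      = Q + (∑ i, partial_ a i * h i + E h) := by simp only [E]; ring
    _ = (1 + w) * Q := by rw [hEeq]; ring

/-- The hypersurface of an ordinary quadratic series is that of its quadratic part. -/
theorem nonempty_quot_equiv (ha : VanCyc.QuadOrd a) (F : PS)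
    (hF : ∀ e : Fin n →₀ ℕ, e.degree ≤ 2 → coeff e F = coeff e (quadSer a (X : Fin n → PS))) :
    Nonempty ((PS ⧸ Ideal.span {F}) ≃ₐ[k]
      (PS ⧸ Ideal.span {((VanCyc.quadPoly a : MvPolynomial (Fin n) k) : PS)})) := by
  obtain ⟨h, w, hh, hs, hw, he⟩ := exists_subst_eq_unit_mul ha F hF
  have hb : Function.Bijective (subst (fun i => X i + h i) : PS → PS) :=
    bijective_subst_of_sub_X _ fun i => by rw [add_sub_cancel_left]; exact hh i
  refine ⟨Ideal.quotientEquivAlg _ _ (substEquiv _ hs hb) ?_⟩
  rw [Ideal.map_span, Set.image_singleton, coe_quadPoly]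
  refine Eq.trans ?_ (congrArg (fun g => Ideal.span {g}) (((substEquiv_apply _ hs hb F).trans he).symm))
  refine (Ideal.span_singleton_mul_left_unit ?_ _).symm
  rw [isUnit_iff_constantCoeff, map_add, map_one, hw, add_zero]
  exact isUnit_one

end Groth.Agent.Misc12.HensIso
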