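import Groth.Agent.Misc12.HensIso.Basic
import Groth.Agent.Misc12.HensIso.OrdMorse
import Groth.Agent.SGA7.Translation
import Groth.Agent.SGA7.HypersurfaceCompletion

/-!
The completion of a quadratic cone at its vertex.
-/

set_option autoImplicit false

universe u

open MvPolynomial

namespace Groth.Agent.Misc12.HensIso

theorem originQuot_eq {k : Type u} [Field k] {N : ℕ} (a : Fin N → Fin N → k) :
    VanCyc.originQuot k a 0 = (MvPolynomial.idealOfVars (Fin N) k).map (Ideal.Quotient.mk _) := by
  unfold VanCyc.originQuot VanCyc.originIdeal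
  rw [IsLocalRing.maximalIdeal_eq_bot, Ideal.map_bot, bot_sup_eq]

theorem quadRing_span {k : Type u} [Field k] {N : ℕ} (a : Fin N → Fin N → k) :
    Ideal.span {VanCyc.quadPoly a - MvPolynomial.C (0 : k)} = Ideal.span {VanCyc.quadPoly a} := by
  rw [map_zero, sub_zero]

/-- The completion of the cone `Q = 0` at the vertex. -/
theorem nonempty_cone_completion {k : Type u} [Field k] {N : ℕ} (a : Fin N → Fin N → k)
    [(VanCyc.originQuot k a 0).IsPrime] :
    Nonempty (EtNbhdApprox.Cpl (Localization.AtPrime (VanCyc.originQuot k a 0)) ≃ₐ[k]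
      (MvPowerSeries (Fin N) k ⧸ Ideal.span {((VanCyc.quadPoly a : MvPolynomial (Fin N) k) :
        MvPowerSeries (Fin N) k)})) := by
  set g := VanCyc.quadPoly a
  let m₀ := MvPolynomial.idealOfVars (Fin N) k
  let mk₁ : MvPolynomial (Fin N) k →ₐ[k] VanCyc.quadRing k a 0 := Ideal.Quotient.mkₐ k _
  let P := VanCyc.originQuot k a 0
  have : P.IsMaximal := by
    have hsurj : Function.Surjective (Ideal.Quotient.mk (Ideal.span {g - MvPolynomial.C (0 : k)})) :=
      Ideal.Quotient.mk_surjective
    have hmax : m₀.IsMaximal := by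
      have h1 : m₀ = RingHom.ker (MvPolynomial.constantCoeff : MvPolynomial (Fin N) k →+* k) := by
        ext p
        rw [RingHom.mem_ker]
        constructor
        · intro hp
          have h2 := (MvPolynomial.mem_pow_idealOfVars_iff' 1 p).mp (by rwa [pow_one]) 0 (by simp)
          rwa [MvPolynomial.constantCoeff_eq]
        · intro hp
          rw [← pow_one m₀]
          refine (MvPolynomial.mem_pow_idealOfVars_iff' 1 p).mpr fun d hd => ?_
          have hd0 : d = 0 := by rw [← Finsupp.degree_eq_zero_iff]; omega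
          subst hd0
          exact hp
      rw [h1]
      exact RingHom.ker_isMaximal_of_surjective _ fun c => ⟨MvPolynomial.C c, MvPolynomial.constantCoeff_C _ c⟩
    rcases Ideal.map_eq_top_or_isMaximal_of_surjective _ hsurj hmax with h | h
    · exact absurd ((originQuot_eq a).trans h) (Ideal.IsPrime.ne_top inferInstance)
    · show (VanCyc.originQuot k a 0).IsMaximal
      rw [originQuot_eq]
      exact h
  let π : ∀ n, VanCyc.quadRing k a 0 →ₐ[k] (MvPolynomial (Fin N) k ⧸ Groth.SGA7.Hypersurface.jetIdeal g n) :=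
    fun n => Ideal.Quotient.factorₐ k ((quadRing_span a).le.trans le_sup_left)
  have hπ : ∀ n, Function.Surjective (π n) := fun n => Ideal.Quotient.factor_surjective ((quadRing_span a).le.trans le_sup_left)
  have hker : ∀ n, RingHom.ker (π n) = P ^ n := by
    intro n
    show RingHom.ker (Ideal.Quotient.factor (S := Ideal.span {g - MvPolynomial.C (0 : k)})
      (T := Groth.SGA7.Hypersurface.jetIdeal g n) ((quadRing_span a).le.trans le_sup_left)) = _
    rw [Ideal.Quotient.factor_ker]
    show _ = (VanCyc.originQuot k a 0) ^ n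
    rw [originQuot_eq, ← Ideal.map_pow, Groth.SGA7.Hypersurface.jetIdeal, Ideal.map_sup,
      ← quadRing_span, Ideal.map_quotient_self, bot_sup_eq]
  exact Groth.SGA7.Hypersurface.nonempty_completion_equiv π hπ hker fun {m n} h b => by
    obtain ⟨b, rfl⟩ := Ideal.Quotient.mk_surjective b
    rfl

/-- An essentially finite type local algebra is a localization of an algebra of finite type at a prime. -/
theorem exists_isLocalization_atPrime (k O : Type u) [CommRing k] [CommRing O] [IsLocalRing O]
    [Algebra k O] [Algebra.EssFiniteType k O] :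
    ∃ (S : Subalgebra k O) (Q : Ideal S) (_ : Q.IsPrime), Algebra.FiniteType k S ∧
      IsLocalization.AtPrime O Q := by
  let S := Algebra.EssFiniteType.subalgebra k O
  let Q : Ideal S := (IsLocalRing.maximalIdeal O).comap (algebraMap S O)
  have hsub : Q.primeCompl = Algebra.EssFiniteType.submonoid k O := by
    ext x
    show x ∉ Q ↔ IsUnit (algebraMap S O x)
    exact IsLocalRing.notMem_maximalIdeal
  refine ⟨S, Q, inferInstance, inferInstance, ?_⟩
  show IsLocalization Q.primeCompl O
  rw [hsub]; infer_instance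

theorem isGRing_field (k : Type u) [Field k] : CAlg.IsGRing k := by
  have : IsAdicComplete (IsLocalRing.maximalIdeal k) k := by
    rw [IsLocalRing.maximalIdeal_eq_bot]; infer_instance
  exact Groth.Ega4b.isGRing_of_isAdicComplete k

theorem algEquiv_algebraMap {k K L : Type u} [CommRing k] [CommRing K] [IsLocalRing K] [CommRing L]
    [IsLocalRing L] [Algebra k K] [Algebra k L] (φ : EtNbhdApprox.Cpl K ≃ₐ[k] EtNbhdApprox.Cpl L) (r : k) :
    φ.toRingEquiv (algebraMap K (EtNbhdApprox.Cpl K) (algebraMap k K r)) =
      algebraMap L (EtNbhdApprox.Cpl L) (algebraMap k L r) := by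
  rw [← IsScalarTower.algebraMap_apply k K, ← IsScalarTower.algebraMap_apply k L]
  exact φ.commutes r

/-- An ordinary quadratic singularity has the henselization of a cone. -/
theorem exists_cone (k : Type u) [Field k] [IsAlgClosed k]
    (O : Type u) [CommRing O] [IsLocalRing O] [Algebra k O] [Algebra.EssFiniteType k O]
    (n : ℕ) (hq : VanCyc.IsOrdQuadSing k O n)
    (Oh : Type u) [CommRing Oh] [IsLocalRing Oh] [Algebra O Oh] [IsLocalHom (algebraMap O Oh)]
    [Hensel.IsHenselization O Oh] [Algebra k Oh] [IsScalarTower k O Oh] :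
    ∃ a : Fin (n + 1) → Fin (n + 1) → k, VanCyc.QuadOrd a ∧
      ∀ [(VanCyc.originQuot k a 0).IsPrime] (C : Type u) [CommRing C] [IsLocalRing C]
        [Algebra (Localization.AtPrime (VanCyc.originQuot k a 0)) C]
        [IsLocalHom (algebraMap (Localization.AtPrime (VanCyc.originQuot k a 0)) C)]
        [Hensel.IsHenselization (Localization.AtPrime (VanCyc.originQuot k a 0)) C]
        [Algebra k C] [IsScalarTower k (Localization.AtPrime (VanCyc.originQuot k a 0)) C],
        Nonempty (Oh ≃ₐ[k] C) := by
  obtain ⟨f, ⟨⟨hf0, hf1⟩, hford⟩, ⟨ψ⟩⟩ := hq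
  refine ⟨VanCyc.quadPart f, hford, ?_⟩
  intro hp C _ _ _ _ _ _ _
  obtain ⟨θ⟩ := nonempty_quot_equiv hford f fun e he => by
    rw [Groth.SGA7.Translation.coeff_eq_quadPart f hf1 e he, hf0, map_zero, add_zero,
      Groth.SGA7.Morse.coe_quadPoly]
  obtain ⟨γ⟩ := nonempty_cone_completion (VanCyc.quadPart f)
  let φ := (γ.trans θ.symm).trans ψ.symm
  obtain ⟨S, Q, _, _, _⟩ := exists_isLocalization_atPrime k O
  obtain ⟨e⟩ := exists_henselization_algEquiv (R := k) (isGRing_field k) Q O
    (VanCyc.originQuot k (VanCyc.quadPart f) 0) (Localization.AtPrime (VanCyc.originQuot k (VanCyc.quadPart f) 0))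
    φ.toRingEquiv (algEquiv_algebraMap φ) Oh C
  exact ⟨e.symm⟩

end Groth.Agent.Misc12.HensIso
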