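import Groth.Agent.Misc12.EtNbhdApprox.EtaleAt
import Groth.Agent.Misc12.EtNbhdApprox.Chart
import Groth.Agent.Hensel1.HensAtPrime
import Groth.Agent.Hensel1.EtaleTransfer
import Groth.Agent.Hensel1.Std
import Groth.Agent.S0599
import Groth.Prelude.Def_Found
import Mathlib.RingTheory.Etale.Locus

/-!
Local rings of algebras of finite type with isomorphic completions have isomorphic henselizations.
-/

set_option autoImplicit false

universe u

open IsLocalRing

namespace Groth.Agent.Misc12.HensIso

open EtNbhdApprox (Cpl IsPoint ev_algebraMap ev_eq_zero_iff algebraMap_mem ringEquiv_mem_maximalIdeal exists_ev_eq)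

/-- The localization at a point of the étale locus is essentially étale over the local ring below. -/
theorem isEssentiallyEtale_of_isEtaleAt {B E : Type u} [CommRing B] [CommRing E] [Algebra B E]
    [Algebra.FinitePresentation B E] (P' : Ideal E) [P'.IsPrime] [Algebra.IsEtaleAt B P'] (Q : Ideal B)
    [Q.IsPrime] (hQ : P'.comap (algebraMap B E) = Q) (K : Type u) [CommRing K] [IsLocalRing K]
    [Algebra B K] [IsLocalization.AtPrime K Q] (M : Type u) [CommRing M] [IsLocalRing M] [Algebra E M]
    [IsLocalization.AtPrime M P'] [Algebra B M] [IsScalarTower B E M] [Algebra K M] [IsScalarTower B K M] :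
    IsLocalHom (algebraMap K M) ∧ EGA4loc.IsEssentiallyEtale K M := by
  obtain ⟨h, hh, hE'⟩ := Algebra.exists_etale_of_isEtaleAt (R := B) P'
  let E' := Localization.Away h
  have hle : Submonoid.powers h ≤ P'.primeCompl := by
    rintro _ ⟨n, rfl⟩ h1
    exact hh (‹P'.IsPrime›.mem_of_pow_mem n h1)
  let : Algebra E' M := (IsLocalization.lift (M := Submonoid.powers h) (g := algebraMap E M) fun y =>
    IsLocalization.map_units M (⟨y, hle y.2⟩ : P'.primeCompl)).toAlgebra
  have : IsScalarTower E E' M := IsScalarTower.of_algebraMap_eq fun e => (IsLocalization.lift_eq _ e).symm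
  have : IsScalarTower B E' M := IsScalarTower.of_algebraMap_eq fun b => by
    rw [IsScalarTower.algebraMap_apply B E M, IsScalarTower.algebraMap_apply B E E',
      ← IsScalarTower.algebraMap_apply E E' M]
  let q : Ideal E' := (maximalIdeal M).comap (algebraMap E' M)
  have : q.IsPrime := Ideal.IsPrime.comap _
  have : q.LiesOver Q := ⟨by
    rw [← hQ, Ideal.under_def, Ideal.comap_comap, ← IsScalarTower.algebraMap_eq,
      IsScalarTower.algebraMap_eq B E M, ← Ideal.comap_comap]
    congr 1
    exact (IsLocalization.AtPrime.comap_maximalIdeal M P').symm⟩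
  have h1 : IsLocalization (P'.primeCompl.map (algebraMap E E')) M :=
    IsLocalization.isLocalization_of_submonoid_le E' M (Submonoid.powers h) P'.primeCompl hle
  have h2 : IsLocalization.AtPrime M q := by
    refine IsLocalization.of_le (P'.primeCompl.map (algebraMap E E')) q.primeCompl ?_ ?_
    · rintro _ ⟨c, hc, rfl⟩ hmem
      have hm : algebraMap E' M (algebraMap E E' c) ∈ maximalIdeal M := hmem
      rw [← IsScalarTower.algebraMap_apply] at hm
      exact hm ((IsLocalization.AtPrime.isUnit_to_map_iff M P' c).mpr hc)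
    · exact fun r hr => IsLocalRing.notMem_maximalIdeal.mp hr
  exact Groth.Hensel1.isEssentiallyEtale_of_isLocalization B E' Q q K M

/-- Two local rings with isomorphic completions, one over a G-ring, have isomorphic henselizations. -/
theorem exists_henselization_algEquiv {R C B : Type u} [CommRing R] [CommRing C] [CommRing B]
    [Algebra R C] [Algebra R B] [Algebra.FiniteType R C] [Algebra.FiniteType R B]
    [IsNoetherianRing R] (hG : CAlg.IsGRing R)
    (P : Ideal C) [P.IsPrime] (L : Type u) [CommRing L] [IsLocalRing L] [Algebra C L] [Algebra R L]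
    [IsScalarTower R C L] [IsLocalization.AtPrime L P]
    (Q : Ideal B) [Q.IsPrime] (K : Type u) [CommRing K] [IsLocalRing K] [Algebra B K] [Algebra R K]
    [IsScalarTower R B K] [IsLocalization.AtPrime K Q]
    (φ : Cpl K ≃+* Cpl L)
    (hφ : ∀ r, φ (algebraMap K (Cpl K) (algebraMap R K r)) = algebraMap L (Cpl L) (algebraMap R L r))
    (Lh : Type u) [CommRing Lh] [IsLocalRing Lh] [Algebra L Lh] [IsLocalHom (algebraMap L Lh)]
    [Hensel.IsHenselization L Lh] [Algebra R Lh] [IsScalarTower R L Lh]
    (Kh : Type u) [CommRing Kh] [IsLocalRing Kh] [Algebra K Kh] [IsLocalHom (algebraMap K Kh)]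
    [Hensel.IsHenselization K Kh] [Algebra R Kh] [IsScalarTower R K Kh] :
    Nonempty (Kh ≃ₐ[R] Lh) := by
  have : IsNoetherianRing C := Algebra.FiniteType.isNoetherianRing R C
  have : IsNoetherianRing B := Algebra.FiniteType.isNoetherianRing R B
  have : IsNoetherianRing L := IsLocalization.isNoetherianRing P.primeCompl L inferInstance
  have : IsNoetherianRing K := IsLocalization.isNoetherianRing Q.primeCompl K inferInstance
  have : Algebra.FinitePresentation R B := Algebra.FinitePresentation.of_finiteType.1 ‹_›
  have hGC : CAlg.IsGRing C := Groth.Agent.S0599.result R hG C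
  have hreg : CAlg.IsRegularHom C (Cpl L) := EtNbhdApprox.isRegularHom_cpl P L
    (Groth.Ega4Algebra1.isGRing_of_ringEquiv (IsLocalization.algEquiv P.primeCompl (Localization P.primeCompl) L).toRingEquiv
      (Groth.Ega4Algebra1.isGRing_localization hGC P.primeCompl))
  let f : B →ₐ[R] Cpl L :=
    { φ.toRingHom.comp ((algebraMap K (Cpl K)).comp (algebraMap B K)) with
      commutes' := fun r => by
        show φ (algebraMap K (Cpl K) (algebraMap B K (algebraMap R B r))) = _
        rw [← IsScalarTower.algebraMap_apply R B K, hφ, ← IsScalarTower.algebraMap_apply R L (Cpl L)] }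
  obtain ⟨E, iE, aCE, aRE, tRCE, P', ψ, g, hE, hP', hP'C, hpt, hg⟩ :=
    EtNbhdApprox.exists_point_approx P L hreg f 2
  have := hP'
  let : Algebra B E := g.toRingHom.toAlgebra
  have : IsScalarTower R B E := IsScalarTower.of_algebraMap_eq fun r => (g.commutes r).symm
  have : Algebra.FiniteType R E := Algebra.FiniteType.trans (S := C) inferInstance inferInstance
  have : Algebra.FiniteType B E := Algebra.FiniteType.of_restrictScalars_finiteType R B E
  have : IsNoetherianRing E := Algebra.FiniteType.isNoetherianRing R E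
  have : Algebra.FinitePresentation B E := Algebra.FinitePresentation.of_finiteType.1 ‹_›
  have : Algebra.IsEtaleAt B P' := EtNbhdApprox.isEtaleAt_of_approx P L P' ψ Q K hpt hP'C φ
    le_rfl hg
  have : Algebra.IsEtaleAt C P' := inferInstance
  have : Algebra.FinitePresentation C E := inferInstance
  -- `P'` lies over `Q`
  have hev1 : ∀ b, φ (algebraMap K (Cpl K) (algebraMap B K b)) - ψ (g b) ∈ maximalIdeal (Cpl L) := by
    intro b
    have h1 := hg b
    rw [← sub_eq_zero, ← map_sub, ev_eq_zero_iff] at h1
    exact Ideal.pow_le_self two_ne_zero h1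
  have hψP' : ∀ x, x ∉ P' → IsUnit (ψ x) := by
    intro x hx
    obtain ⟨r, s, hs, hr⟩ := hpt.surj x
    have hrP : r ∉ P := fun hrP => by
      rw [← hP'C] at hrP
      have h1 := Ideal.add_mem _ hr hrP
      rw [sub_add_cancel] at h1
      exact (‹P'.IsPrime›.mem_or_mem h1).elim (fun h2 => hs (hP'C ▸ h2)) hx
    have h1 := hpt.mem _ hr
    rw [map_sub, map_mul, ψ.commutes, ψ.commutes] at h1
    have h2 : IsUnit (algebraMap C (Cpl L) r) := by
      rw [IsScalarTower.algebraMap_apply C L (Cpl L)]
      exact (IsLocalization.map_units L (⟨r, hrP⟩ : P.primeCompl)).map _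
    by_contra h3
    have h4 := Ideal.sub_mem _ (Ideal.mul_mem_left _ (algebraMap C (Cpl L) s)
      ((mem_maximalIdeal _).2 h3)) h1
    rw [sub_sub_cancel] at h4
    exact (mem_maximalIdeal _).1 h4 h2
  have hQ : P'.comap (algebraMap B E) = Q := by
    ext b
    show g b ∈ P' ↔ b ∈ Q
    rw [← IsLocalization.AtPrime.to_map_mem_maximal_iff K Q b]
    constructor
    · intro hb
      have h1 := Ideal.add_mem _ (hev1 b) (hpt.mem _ hb)
      rw [sub_add_cancel] at h1
      by_contra h2
      exact (mem_maximalIdeal _).1 h1 (((notMem_maximalIdeal.1 h2).map _).map φ.toRingHom)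
    · intro hb
      by_contra h2
      have h1 := Ideal.sub_mem _ (ringEquiv_mem_maximalIdeal φ (algebraMap_mem hb)) (hev1 b)
      rw [sub_sub_cancel] at h1
      exact (mem_maximalIdeal _).1 h1 (hψP' _ h2)
  let M := Localization.AtPrime P'
  have hunK : ∀ t : Q.primeCompl, IsUnit (algebraMap B M t) := fun t => by
    rw [IsScalarTower.algebraMap_apply B E M]
    exact IsLocalization.map_units M (⟨algebraMap B E t, fun ht => t.2 (hQ ▸ ht)⟩ : P'.primeCompl)
  have hunL : ∀ t : P.primeCompl, IsUnit (algebraMap C M t) := fun t => by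
    rw [IsScalarTower.algebraMap_apply C E M]
    exact IsLocalization.map_units M (⟨algebraMap C E t, fun ht => t.2 (hP'C ▸ ht)⟩ : P'.primeCompl)
  let : Algebra K M := (IsLocalization.lift hunK).toAlgebra
  have : IsScalarTower B K M := IsScalarTower.of_algebraMap_eq fun b => (IsLocalization.lift_eq hunK b).symm
  let : Algebra L M := (IsLocalization.lift hunL).toAlgebra
  have : IsScalarTower C L M := IsScalarTower.of_algebraMap_eq fun b => (IsLocalization.lift_eq hunL b).symm
  obtain ⟨hlocK, heK⟩ := isEssentiallyEtale_of_isEtaleAt P' Q hQ K M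
  obtain ⟨hlocL, heL⟩ := isEssentiallyEtale_of_isEtaleAt P' P hP'C L M
  -- residue fields
  have hεm : ∀ a ∈ maximalIdeal L, algebraMap L M a ∈ maximalIdeal M := fun a ha => by
    by_contra h0
    exact (mem_maximalIdeal a).1 ha (IsLocalHom.map_nonunit a (notMem_maximalIdeal.1 h0))
  have hM : ∀ x ∈ P', algebraMap E M x ∈ maximalIdeal M := fun x hx =>
    (IsLocalization.AtPrime.to_map_mem_maximal_iff M P' x).2 hx
  have hεC : ∀ c, algebraMap L M (algebraMap C L c) = algebraMap E M (algebraMap C E c) := fun c => by
    rw [← IsScalarTower.algebraMap_apply C L M, ← IsScalarTower.algebraMap_apply C E M]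
  have hresL : Function.Surjective (ResidueField.map (algebraMap L M)) := fun z => by
    obtain ⟨z, rfl⟩ := residue_surjective z
    obtain ⟨l, hl⟩ := hpt.exists_sub_mem_of_isLocalization (algebraMap L M) hM hεm hεC 1 z
    refine ⟨residue L l, ?_⟩
    rw [ResidueField.map_residue, ← sub_eq_zero, ← map_sub, residue_eq_zero_iff, ← neg_sub, neg_mem_iff]
    rwa [pow_one] at hl
  have hresK : Function.Surjective (ResidueField.map (algebraMap K M)) := fun z => by
    obtain ⟨z, rfl⟩ := residue_surjective z
    obtain ⟨l, hl⟩ := hpt.exists_sub_mem_of_isLocalization (algebraMap L M) hM hεm hεC 1 z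
    rw [pow_one] at hl
    obtain ⟨k₀, hk₀⟩ := exists_ev_eq K 1 (φ.symm (algebraMap L (Cpl L) l))
    rw [← ev_algebraMap K 1, ← sub_eq_zero, ← map_sub, ev_eq_zero_iff, pow_one] at hk₀
    have hk1 := ringEquiv_mem_maximalIdeal φ hk₀
    rw [map_sub, φ.apply_symm_apply] at hk1
    obtain ⟨⟨b, t⟩, hbt⟩ := IsLocalization.surj Q.primeCompl k₀
    refine ⟨residue K k₀, ?_⟩
    rw [ResidueField.map_residue, ← sub_eq_zero, ← map_sub, residue_eq_zero_iff]
    -- compare inside the completion of `L`
    have hψu : ∀ y : P'.primeCompl, IsUnit (ψ.toRingHom y) := fun y => hψP' y y.2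
    let ψM : M →+* Cpl L := IsLocalization.lift hψu
    have hψMu : ∀ y, ψM y ∈ maximalIdeal (Cpl L) → y ∈ maximalIdeal M := fun y hy => by
      by_contra h0
      exact (mem_maximalIdeal _).1 hy ((notMem_maximalIdeal.1 h0).map ψM)
    have hψε : ψM.comp (algebraMap L M) = algebraMap L (Cpl L) := IsLocalization.ringHom_ext P.primeCompl
      (RingHom.ext fun c => by
        show ψM (algebraMap L M (algebraMap C L c)) = algebraMap L (Cpl L) (algebraMap C L c)
        rw [hεC, IsLocalization.lift_eq hψu]
        exact (ψ.commutes c).trans (IsScalarTower.algebraMap_apply C L (Cpl L) c))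
    have h1 : algebraMap K M k₀ - algebraMap L M l ∈ maximalIdeal M := by
      refine (Ideal.mul_unit_mem_iff_mem _ (hunK t)).1 (hψMu _ ?_)
      rw [IsScalarTower.algebraMap_apply B K M, sub_mul, ← map_mul, hbt, map_sub, map_mul,
        ← IsScalarTower.algebraMap_apply B K M, ← IsScalarTower.algebraMap_apply B K M,
        IsScalarTower.algebraMap_apply B E M, IsScalarTower.algebraMap_apply B E M (t : B)]
      show ψM (algebraMap E M (g b)) - ψM.comp (algebraMap L M) l * ψM (algebraMap E M (g (t : B))) ∈ _
      rw [hψε, IsLocalization.lift_eq hψu, IsLocalization.lift_eq hψu]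
      show ψ (g b) - algebraMap L (Cpl L) l * ψ (g (t : B)) ∈ _
      have h2 := Ideal.sub_mem _ (Ideal.sub_mem _
        (Ideal.mul_mem_left _ (algebraMap L (Cpl L) l) (hev1 (t : B))) (hev1 b))
        (Ideal.mul_mem_right (φ (algebraMap K (Cpl K) (algebraMap B K (t : B)))) _ hk1)
      have h3 : φ (algebraMap K (Cpl K) k₀) * φ (algebraMap K (Cpl K) (algebraMap B K (t : B))) =
          φ (algebraMap K (Cpl K) (algebraMap B K b)) := by
        rw [← map_mul, ← map_mul, hbt]
      convert h2 using 1
      linear_combination -h3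
    have h4 := Ideal.sub_mem _ h1 hl
    rwa [sub_sub_sub_cancel_right] at h4
  -- the henselization of `M`
  let T := Groth.Hensel1.Hens M (ResidueField M)
  have hT := Groth.Hensel1.isHenselization_hens M
  let : Algebra K T := ((algebraMap M T).comp (algebraMap K M)).toAlgebra
  have : IsScalarTower K M T := IsScalarTower.of_algebraMap_eq fun _ => rfl
  let : Algebra L T := ((algebraMap M T).comp (algebraMap L M)).toAlgebra
  have : IsScalarTower L M T := IsScalarTower.of_algebraMap_eq fun _ => rfl
  have : IsLocalHom (algebraMap K T) := RingHom.isLocalHom_comp _ _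
  have : IsLocalHom (algebraMap L T) := RingHom.isLocalHom_comp _ _
  have := Groth.Hensel1.isHenselization_of_essentiallyEtale heK hresK T
  have := Groth.Hensel1.isHenselization_of_essentiallyEtale heL hresL T
  obtain ⟨eK⟩ := Groth.Hensel1.exists_algEquiv_of_isHenselization K Kh
  obtain ⟨eK'⟩ := Groth.Hensel1.exists_algEquiv_of_isHenselization K T
  obtain ⟨eL⟩ := Groth.Hensel1.exists_algEquiv_of_isHenselization L Lh
  obtain ⟨eL'⟩ := Groth.Hensel1.exists_algEquiv_of_isHenselization L T
  let e₁ : Kh ≃+* T := (eK.symm.trans eK').toRingEquiv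
  let e₂ : T ≃+* Lh := (eL'.symm.trans eL).toRingEquiv
  refine ⟨AlgEquiv.ofRingEquiv (f := e₁.trans e₂) fun r => ?_⟩
  rw [IsScalarTower.algebraMap_apply R K Kh, RingEquiv.trans_apply]
  have h1 : e₁ (algebraMap K Kh (algebraMap R K r)) = algebraMap K T (algebraMap R K r) :=
    (eK.symm.trans eK').commutes _
  rw [h1, IsScalarTower.algebraMap_apply R L Lh]
  have h2 : algebraMap K T (algebraMap R K r) = algebraMap L T (algebraMap R L r) := by
    show algebraMap M T (algebraMap K M _) = algebraMap M T (algebraMap L M _)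
    rw [IsScalarTower.algebraMap_apply R B K, IsScalarTower.algebraMap_apply R C L,
      ← IsScalarTower.algebraMap_apply B K M, ← IsScalarTower.algebraMap_apply C L M,
      IsScalarTower.algebraMap_apply B E M, IsScalarTower.algebraMap_apply C E M,
      ← IsScalarTower.algebraMap_apply R B E, ← IsScalarTower.algebraMap_apply R C E]
  rw [h2]
  exact (eL'.symm.trans eL).commutes _

end Groth.Agent.Misc12.HensIso
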