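import Groth.Agent.SGA7.Morse
import Mathlib.FieldTheory.IsAlgClosed.Basic
import Mathlib.LinearAlgebra.Basis.VectorSpace
import Mathlib.Tactic

/-!
Ordinary quadratic forms: the quadratic monomials are combinations of the form and of its partial derivatives.
-/

set_option autoImplicit false

universe u

namespace Groth.Agent.Misc12.HensIso

open Matrix

theorem exists_kernel_data {k : Type u} [Field k] [IsAlgClosed k] {N : ℕ} (a : Fin N → Fin N → k)
    (ha : VanCyc.QuadOrd a) :
    ∃ (v φ : Fin N → k) (M : Matrix (Fin N) (Fin N) k),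
      (VanCyc.polarMatrix a).mulVec v = 0 ∧
      (∀ x : Fin N → k, x = M.mulVec ((VanCyc.polarMatrix a).mulVec x) + (dotProduct φ x) • v) ∧
      (v = 0 ∨ VanCyc.quadEval a v ≠ 0) := by
  classical
  set P := VanCyc.polarMatrix a with hP
  suffices h : ∃ (v φ : Fin N → k), P.mulVec v = 0 ∧ (v = 0 ∨ VanCyc.quadEval a v ≠ 0) ∧
      ∀ x, P.mulVec x = 0 → x = (dotProduct φ x) • v by
    obtain ⟨v, φ, hv, hQ, hker⟩ := h
    let T : (Fin N → k) →ₗ[k] (Fin N → k) :=
      LinearMap.id - (Fintype.linearCombination k φ).smulRight v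
    have hT : ∀ x, T x = x - (dotProduct φ x) • v := fun x => by
      simp [T, Fintype.linearCombination_apply, dotProduct, mul_comm]
    let f := Matrix.mulVecLin P
    have hle : LinearMap.ker f ≤ LinearMap.ker T := fun x hx => by
      rw [LinearMap.mem_ker, hT, sub_eq_zero]
      exact hker x hx
    obtain ⟨g, hg⟩ := LinearMap.exists_extend
      (((LinearMap.ker f).liftQ T hle).comp f.quotKerEquivRange.symm.toLinearMap)
    refine ⟨v, φ, LinearMap.toMatrix' g, hv, fun x => ?_, hQ⟩
    rw [← Matrix.toLin'_apply, Matrix.toLin'_toMatrix']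
    have h1 : g (P.mulVec x) = T x := by
      have h2 := LinearMap.congr_fun hg ⟨f x, LinearMap.mem_range_self f x⟩
      simp only [LinearMap.comp_apply, Submodule.coe_subtype, LinearEquiv.coe_coe,
        LinearMap.quotKerEquivRange_symm_apply_image, Submodule.mkQ_apply, Submodule.liftQ_apply] at h2
      exact h2
    rw [h1, hT, sub_add_cancel]
  by_cases h0 : ∀ x, P.mulVec x = 0 → x = 0
  · exact ⟨0, 0, Matrix.mulVec_zero _, Or.inl rfl, fun x hx => by simp [h0 x hx]⟩
  push Not at h0
  obtain ⟨v, hv, hv0⟩ := h0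
  have hQ : VanCyc.quadEval a v ≠ 0 := fun h => hv0 (ha v h hv)
  obtain ⟨i, hi⟩ : ∃ i, v i ≠ 0 := Function.ne_iff.1 hv0
  refine ⟨v, Pi.single i (v i)⁻¹, hv, Or.inr hQ, fun x hx => ?_⟩
  rw [single_dotProduct]
  -- `y = x - t v` lies in the kernel; if nonzero, a combination with `v` is an isotropic kernel vector
  set y := x - ((v i)⁻¹ * x i) • v with hy
  have hyi : y i = 0 := by simp [hy, hi, mul_comm, mul_assoc]
  have hyP : P.mulVec y = 0 := by rw [hy, Matrix.mulVec_sub, Matrix.mulVec_smul, hx, hv, smul_zero, sub_zero]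
  by_contra hne
  have hy0 : y ≠ 0 := sub_ne_zero.2 hne
  have hQy : VanCyc.quadEval a y ≠ 0 := fun h => hy0 (ha y h hyP)
  obtain ⟨s, hs⟩ := IsAlgClosed.exists_eq_mul_self (-(VanCyc.quadEval a v / VanCyc.quadEval a y))
  have hadd : VanCyc.quadEval a (fun j => v j + s * y j) =
      VanCyc.quadEval a v + s * s * VanCyc.quadEval a y := by
    rw [Groth.SGA7.Morse.quadEval_add]
    have h2 : ∑ j, (∑ l, VanCyc.polarMatrix a j l * v l) * (s * y j) = 0 := by
      refine Finset.sum_eq_zero fun j _ => ?_
      have := congrFun hv j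
      simp only [hP, Matrix.mulVec, dotProduct, Pi.zero_apply] at this
      rw [this, zero_mul]
    rw [h2, add_zero]
    congr 1
    simp only [VanCyc.quadEval, Finset.mul_sum]
    refine Finset.sum_congr rfl fun j _ => Finset.sum_congr rfl fun l _ => ?_
    split_ifs <;> ring
  have hzero : VanCyc.quadEval a (fun j => v j + s * y j) = 0 := by
    rw [hadd, ← hs]; field_simp; ring
  have hzP : P.mulVec (fun j => v j + s * y j) = 0 := by
    rw [show (fun j => v j + s * y j) = v + s • y from rfl, Matrix.mulVec_add, Matrix.mulVec_smul,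
      hv, hyP, smul_zero, add_zero]
  have := congrFun (ha _ hzero hzP) i
  simp [hyi, hi] at this

end Groth.Agent.Misc12.HensIso
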